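import Groth.Agent.TateLoc.K227.PowEt
import Groth.Agent.HLoc2.K775.FieldDiv
import Groth.Agent.GaDual.K771.PerfRes
import Groth.Agent.TateLoc.K809.Les
import Groth.Agent.Sga3.H830.CommAux

/-!
# Cohomology of commutative algebraic groups over a field of characteristic zero

`subsingleton_H`: `H^i(K, G) = 0` for `i > d ≥ 0` if `cd_ℓ(K) ≤ d` for all `ℓ` (`i ≥ 1`), `K` of characteristic
zero, `G` any commutative group scheme of finite type.
-/

set_option autoImplicit false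
universe u
open CategoryTheory CategoryTheory.Limits AlgebraicGeometry Opposite MonoidalCategory
  CartesianMonoidalCategory MonObj

noncomputable section

namespace K227.CharZero

open Groth.Agent K227.PowEt

variable {K : Type u} [Field K]

local notation "𝕊" => Spec (CommRingCat.of K)

/-- The étale sheaf of points. -/
abbrev ptsEt [PerfectField K] (G : Over 𝕊) [GrpObj G] [IsCommMonObj G] : EtCoh.Ab 𝕊 :=
  letI := K771.PerfRes.aCont K
  (EtFppf.aPush 𝕊).obj (CGrpSh.pts Scheme.fppfPrecoverage G)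

variable [CharZero K]

theorem subsingleton_connected (d : ℕ) (hcd : ∀ ℓ : ℕ, ℓ.Prime → _root_.Dix.CohDimLEAt 𝕊 ℓ d)
    (G : Over 𝕊) [GrpObj G] [IsCommMonObj G] [LocallyOfFiniteType G.hom] [ConnectedSpace G.left] (i : ℕ)
    (hi : 1 ≤ i) (hdi : d < i) : Subsingleton (EtCoh.H 𝕊 (ptsEt G) i) := by
  have hdiv : ∀ ℓ : ℕ, ℓ.Prime → Epi (ℓ • 𝟙 (ptsEt G)) := by
    intro ℓ hℓ
    have hn : (ℓ : K) ≠ 0 := Nat.cast_ne_zero.2 hℓ.ne_zero
    have h1 := etale_pow G ℓ hn
    have h2 := surjective_pow G ℓ hn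
    have hp := K719.GrpHom.isMonHom_pow (𝟙 G) ℓ
    have h3 := epi_pts ((𝟙 G : G ⟶ G) ^ ℓ)
    have h4 := K771.PerfRes.epi_aPush K (CGrpSh.ptsMap Scheme.fppfPrecoverage ((𝟙 G : G ⟶ G) ^ ℓ))
    rw [ptsMap_pow ℓ _ hp rfl, Functor.map_nsmul, CategoryTheory.Functor.map_id] at h4
    exact h4
  refine subsingleton_of_forall_eq 0 fun x => ?_
  obtain ⟨n, hn, hx⟩ := isOfFinAddOrder_iff_nsmul_eq_zero.1 (K775.FieldDiv.isAddTorsion_field K (ptsEt G) i hi x)
  exact K775.FieldDiv.eq_zero_of_nsmul (ptsEt G) i hdiv (fun ℓ F hℓ hF => hcd ℓ hℓ F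
    (K775.Tors.isPrimaryTorsion_of_killedBy hF) i hdi) n hn.ne' x hx

theorem subsingleton_ptsEt (d : ℕ) (hcd : ∀ ℓ : ℕ, ℓ.Prime → _root_.Dix.CohDimLEAt 𝕊 ℓ d)
    (G : Over 𝕊) [GrpObj G] [IsCommMonObj G] [LocallyOfFiniteType G.hom] [QuasiCompact G.hom] (i : ℕ)
    (hi : 1 ≤ i) (hdi : d < i) : Subsingleton (EtCoh.H 𝕊 (ptsEt G) i) := by
  obtain ⟨G0, h0, j, hj1, hj2, hj3, hj4, hj5, hj6⟩ := K206.Comm.exists_neutral G
  have hmono : Mono j := ⟨fun x y hab => by
    apply Over.OverMorphism.ext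
    rw [← cancel_mono j.left, ← Over.comp_left, ← Over.comp_left, hab]⟩
  have hc : IsCommMonObj G0 := Groth.Agent.Sga3.H830.CommAux.isCommMonObj_of_mono j
  have hlft : LocallyOfFiniteType G0.hom := by
    rw [← Over.w j]
    infer_instance
  obtain ⟨N, hN, φ, hφ1, hφ2⟩ := exists_fac j hj6
  let a : ptsEt G0 ⟶ ptsEt G := (EtFppf.aPush 𝕊).map (CGrpSh.ptsMap Scheme.fppfPrecoverage j)
  have ha : Mono a := by
    have := mono_pts j
    infer_instance
  let S : ShortComplex (EtCoh.Ab 𝕊) := ShortComplex.mk a (cokernel.π a) (cokernel.condition a)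
  have hS : S.ShortExact := { exact := ShortComplex.exact_cokernel a }
  have hk : N • 𝟙 (cokernel a) = 0 := by
    have hp := K719.GrpHom.isMonHom_pow (𝟙 G) N
    have h1 : (EtFppf.aPush 𝕊).map (CGrpSh.ptsMap Scheme.fppfPrecoverage φ) ≫ a = N • 𝟙 (ptsEt G) := by
      rw [← Functor.map_comp, ← CGrpSh.ptsMap_comp]
      have h2 := ptsMap_pow N (φ ≫ j) inferInstance hφ2
      rw [h2, Functor.map_nsmul, CategoryTheory.Functor.map_id]
    rw [← cancel_epi (cokernel.π a), comp_zero, Preadditive.comp_nsmul, Category.comp_id]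
    have h3 : N • cokernel.π a = (N • 𝟙 (ptsEt G)) ≫ cokernel.π a := by
      rw [Preadditive.nsmul_comp, Category.id_comp]
    rw [h3, ← h1, Category.assoc, cokernel.condition, comp_zero]
  refine K809.Les.subsingleton_mid _ hS (subsingleton_connected d hcd G0 i hi hdi) ?_
  refine K775.Tors.subsingleton_of_killedBy hcd N hN.ne' (cokernel a) ?_ i hdi
  rw [Groth.Agent.Sga5.EtKilled.killedBy_iff]
  exact hk

/-- Vanishing of the fppf cohomology of commutative algebraic groups above the cohomological dimension. -/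
theorem subsingleton_H (d : ℕ) (hcd : ∀ ℓ : ℕ, ℓ.Prime → _root_.Dix.CohDimLEAt 𝕊 ℓ d)
    (G : Over 𝕊) [GrpObj G] [IsCommMonObj G] [LocallyOfFiniteType G.hom] [QuasiCompact G.hom] (i : ℕ)
    (hi : 1 ≤ i) (hdi : d < i) :
    Subsingleton (BigSite.H Scheme.fppfPrecoverage 𝕊 (CGrpSh.pts Scheme.fppfPrecoverage G) i) := by
  obtain ⟨e⟩ := K771.PerfRes.nonempty_hEquiv K (CGrpSh.pts Scheme.fppfPrecoverage G) i
  have := subsingleton_ptsEt d hcd G i hi hdi
  exact e.symm.toEquiv.subsingleton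

end K227.CharZero
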