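import Mathlib.NumberTheory.NumberField.InfinitePlace.TotallyRealComplex
import Mathlib.Algebra.Order.CompleteField

/-!
# A totally complex number field has no ordering
-/

set_option autoImplicit false

open Polynomial

namespace K227.RealEmb

theorem exists_nat_le {K : Type*} [Field K] [LinearOrder K] [IsStrictOrderedRing K] [Algebra ℚ K] (x : K)
    (hx : IsIntegral ℚ x) : ∃ n : ℕ, x ≤ n := by
  obtain ⟨p, hp, hpx⟩ := hx
  let C : ℚ := ∑ i ∈ Finset.range p.natDegree, |p.coeff i|
  obtain ⟨n, hn⟩ := exists_nat_ge (C + 1)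
  have hC : 0 ≤ C := Finset.sum_nonneg fun i _ => abs_nonneg _
  have hcast : ∀ q : ℚ, algebraMap ℚ K q = (q : K) := fun q => eq_ratCast _ q
  have hn' : (C : K) + 1 ≤ n := by exact_mod_cast hn
  have hC' : (0 : K) ≤ (C : K) := by exact_mod_cast hC
  refine ⟨n, ?_⟩
  by_contra hlt
  push Not at hlt
  have hx1 : 1 < x := lt_of_le_of_lt (by linarith) hlt
  have hx0 : 0 < x := by linarith
  have h1 : x ^ p.natDegree + ∑ i ∈ Finset.range p.natDegree, (p.coeff i : K) * x ^ i = 0 := by
    rw [← hpx]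
    conv_rhs => rw [hp.as_sum]
    rw [eval₂_add, eval₂_pow, eval₂_X, eval₂_finsetSum]
    congr 1
    refine Finset.sum_congr rfl fun i _ => ?_
    rw [eval₂_mul, eval₂_C, eval₂_pow, eval₂_X, hcast]
  have hd : p.natDegree ≠ 0 := by
    intro h0
    rw [h0] at h1
    simp at h1
  obtain ⟨d, hd'⟩ := Nat.exists_eq_succ_of_ne_zero hd
  have h2 : -∑ i ∈ Finset.range p.natDegree, (p.coeff i : K) * x ^ i ≤ (C : K) * x ^ d := by
    rw [← Finset.sum_neg_distrib]
    simp only [C]
    rw [Rat.cast_sum, Finset.sum_mul]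
    refine Finset.sum_le_sum fun i hi => ?_
    have hi' : i ≤ d := by
      have := Finset.mem_range.1 hi
      omega
    have h3 : x ^ i ≤ x ^ d := pow_le_pow_right₀ hx1.le hi'
    have h4 : -(p.coeff i : K) ≤ ((|p.coeff i| : ℚ) : K) := by
      rw [Rat.cast_abs]
      exact neg_le_abs _
    calc -((p.coeff i : K) * x ^ i) = (-(p.coeff i : K)) * x ^ i := by ring
      _ ≤ ((|p.coeff i| : ℚ) : K) * x ^ i := mul_le_mul_of_nonneg_right h4 (pow_nonneg hx0.le _)
      _ ≤ ((|p.coeff i| : ℚ) : K) * x ^ d := mul_le_mul_of_nonneg_left h3 (by exact_mod_cast abs_nonneg _)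
  have h5 : x ^ p.natDegree ≤ (C : K) * x ^ d := by linarith
  rw [hd', Nat.succ_eq_add_one, pow_succ'] at h5
  have h6 : x ≤ C := le_of_mul_le_mul_right h5 (pow_pos hx0 d)
  linarith

theorem not_order (K : Type*) [Field K] [NumberField K] [NumberField.IsTotallyComplex K] :
    ¬ ∃ _ : LinearOrder K, IsStrictOrderedRing K := by
  rintro ⟨_, _⟩
  have hA : Archimedean K := archimedean_iff_nat_le.2 fun x =>
    exists_nat_le x (Algebra.IsIntegral.isIntegral (R := ℚ) x)
  let f : K →+* ℝ := (ConditionallyCompleteLinearOrderedField.inducedOrderRingHom K ℝ : K →+*o ℝ)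
  refine NumberField.IsTotallyComplex.complexEmbedding_not_isReal ((algebraMap ℝ ℂ).comp f) ?_
  rw [NumberField.ComplexEmbedding.isReal_iff]
  ext x
  simp [NumberField.ComplexEmbedding.conjugate]

end K227.RealEmb
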