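import Groth.Agent.SGA3x.K14.PowLift
import Groth.Agent.SGA3.K203.FlatImg
import Groth.Agent.SGA3.K206.Comm
import Groth.Agent.FGA.K276.Neutral3
import Groth.Agent.WittGrp.K719.GrpHom
import Groth.Agent.TateLoc.K809.SeqExact

/-!
# Multiplication by `n` on commutative group schemes over a field

* `etale_pow`: `[n]` is étale when `n` is invertible in `k` (any commutative group scheme lft over a field).
* `surjective_pow`: `[n]` is surjective if moreover `G` is connected.
* `exists_tor`, `exists_bound`: some `[N]`, `N > 0`, maps `G` into its neutral component if `G` is of finite type.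
* `exists_fac`: `[N]` factors through the neutral component.
* `epi_pts`, `mono_pts`: fppf homomorphisms give epimorphisms of fppf sheaves, monomorphisms give monomorphisms.
* `ptsMap_pow`: `[n]` induces multiplication by `n` on the sheaf of points.
-/

set_option autoImplicit false
universe u
open CategoryTheory CategoryTheory.Limits AlgebraicGeometry Opposite MonoidalCategory
  CartesianMonoidalCategory MonObj

noncomputable section

namespace K227.PowEt

open Groth.Agent

section Field

variable {k : Type u} [Field k]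

local notation "𝕊" => Spec (CommRingCat.of k)

/-- `[n]` is étale for `n` invertible in the field. -/
theorem etale_pow (G : Over 𝕊) [GrpObj G] [IsCommMonObj G] [LocallyOfFiniteType G.hom] (n : ℕ)
    (hn : (n : k) ≠ 0) : Etale ((𝟙 G : G ⟶ G) ^ n).left := by
  refine K203.Loc.property_of_forall (P := @Etale) fun x => ?_
  let b : Spec (CommRingCat.of (G.left.residueField x)) ⟶ 𝕊 := G.left.fromSpecResidueField x ≫ G.hom
  let z : Over.mk b ⟶ G := Over.homMk (G.left.fromSpecResidueField x) rfl
  have hn' : (n : G.left.residueField x) ≠ 0 := by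
    have e := map_natCast (Spec.preimage b).hom n
    intro h0
    rw [h0] at e
    exact hn ((map_eq_zero_iff _ (Spec.preimage b).hom.injective).1 e)
  have hz : K14.PowLift.IsCentralPt z := fun X t g => mul_comm _ _
  have := K14.PowLift.near_of_central G n hn' b z hz (IsLocalRing.closedPoint _)
  have hx : z.left (IsLocalRing.closedPoint _) = x := Scheme.fromSpecResidueField_apply _ _
  rwa [hx] at this

/-- `[n]` is surjective on a connected commutative group scheme lft over a field with `n` invertible. -/
theorem surjective_pow (G : Over 𝕊) [GrpObj G] [IsCommMonObj G] [LocallyOfFiniteType G.hom]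
    [ConnectedSpace G.left] (n : ℕ) (hn : (n : k) ≠ 0) : Surjective ((𝟙 G : G ⟶ G) ^ n).left := by
  have h1 := etale_pow G n hn
  have h2 : IsLocallyNoetherian G.left := LocallyOfFiniteType.isLocallyNoetherian G.hom
  have h3 : Subsingleton 𝕊 := inferInstanceAs (Subsingleton (PrimeSpectrum k))
  obtain ⟨s⟩ : Nonempty 𝕊 := inferInstanceAs (Nonempty (PrimeSpectrum k))
  have h4 : IsMonHom ((𝟙 G : G ⟶ G) ^ n) := K719.GrpHom.isMonHom_pow _ n
  have h5 := K203.FlatImg.neutralSet_subset_image ((𝟙 G : G ⟶ G) ^ n)
    (((𝟙 G : G ⟶ G) ^ n).left.isOpenMap)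
  have h6 : SGA3x.neutralSet G = Set.univ := by
    rw [K203.FlatImg.neutralSet_of_subsingleton s]
    exact PreconnectedSpace.connectedComponent_eq_univ _
  refine ⟨fun x => ?_⟩
  have h7 : x ∈ SGA3x.neutralSet G := by rw [h6]; trivial
  obtain ⟨y, -, hy⟩ := h5 h7
  exact ⟨y, hy⟩

end Field

section Tor

open Groth.Agent.Sga3.H778 Groth.Agent.Sga3.H778.NeutralPts Groth.Agent.Sga3C Groth.Agent.Sga3C.HomogIrr Topology
open K276.Neutral

/-- Every point of a group scheme of finite type is torsion modulo the neutral component. -/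
theorem exists_tor {S : Scheme.{u}} {G : Over S} [GrpObj G] [LocallyOfFiniteType G.hom] [QuasiCompact G.hom]
    (x : G.left) : ∃ m : ℕ, 0 < m ∧ Tor G x m := by
  let T := ptObj G x
  let xT : T ⟶ G := ptHom G x
  obtain ⟨t⟩ : Nonempty T.left := inferInstance
  have hxT (k : ℕ) : (xT ^ k).left t = pw G k x := by
    have h1 : xT ^ k = xT ≫ (𝟙 G : G ⟶ G) ^ k := by rw [comp_pow, Category.comp_id]
    rw [h1, comp_left_apply, ptHom_apply]
  have hqc : QuasiCompact (fst T G).left :=
    MorphismProperty.of_isPullback (isPullback_snd T G) ‹QuasiCompact G.hom›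
  have hlN : IsNoetherian (T ⊗ G : Over S).left := by
    have h1 : LocallyOfFiniteType (fst T G).left :=
      MorphismProperty.of_isPullback (isPullback_snd T G) ‹LocallyOfFiniteType G.hom›
    have h2 : IsLocallyNoetherian T.left := inferInstanceAs (IsLocallyNoetherian (Spec _))
    have h3 : CompactSpace T.left := inferInstanceAs (CompactSpace (Spec _))
    have h4 := LocallyOfFiniteType.isLocallyNoetherian (fst T G).left
    have h5 : CompactSpace (T ⊗ G : Over S).left := QuasiCompact.compactSpace_of_compactSpace (fst T G).left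
    exact {}
  have hfin : Finite (_root_.ConnectedComponents (T ⊗ G : Over S).left) := finite_connectedComponents
  let c : ℕ → _root_.ConnectedComponents (T ⊗ G : Over S).left := fun k =>
    ConnectedComponents.mk (sigPt t (xT ^ k))
  obtain ⟨k, l, hkl, hc⟩ := Finite.exists_ne_map_eq_of_infinite c
  have hcc : sigPt t (xT ^ l) ∈ connectedComponent (sigPt t (xT ^ k)) := ConnectedComponents.coe_eq_coe'.mp hc.symm
  wlog hlt : k < l generalizing k l
  · refine this l k hkl.symm hc.symm ?_ (lt_of_le_of_ne (not_lt.mp hlt) hkl.symm)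
    rw [← connectedComponent_eq hcc]
    exact mem_connectedComponent
  refine ⟨l - k, Nat.sub_pos_of_lt hlt, ?_⟩
  have h3 := mul_mem_component T t (xT ^ k)⁻¹ _ _ hcc
  rw [inv_mul_cancel] at h3
  have h4 : (xT ^ k)⁻¹ * xT ^ l = xT ^ (l - k) := by
    have : l = k + (l - k) := by omega
    nth_rw 1 [this]
    rw [_root_.pow_add, inv_mul_cancel_left]
  rw [h4] at h3
  have h5 := (lift_mem_iff T t (xT ^ (l - k))).mp h3
  rw [hxT] at h5
  exact h5

/-- Some positive multiple maps a group scheme of finite type over a Noetherian base to its neutral component. -/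
theorem exists_bound {S : Scheme.{u}} [IsNoetherian S] (G : Over S) [GrpObj G] [LocallyOfFiniteType G.hom]
    [QuasiCompact G.hom] : ∃ N : ℕ, 0 < N ∧ ∀ x, pw G N x ∈ SGA3x.neutralSet G := by
  have : CompactSpace G.left := QuasiCompact.compactSpace_of_compactSpace G.hom
  obtain ⟨N, hN, h⟩ := K276.Neutral.exists_bound (G := G) ⊤ isCompact_univ
  exact ⟨N, hN, fun x => h x trivial (exists_tor x)⟩

/-- Over a field: `[N]` factors through the neutral component. -/
theorem exists_fac {k : Type u} [Field k] {G G0 : Over (Spec (CommRingCat.of k))} [GrpObj G] [IsCommMonObj G]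
    [GrpObj G0] [LocallyOfFiniteType G.hom] [QuasiCompact G.hom] (i : G0 ⟶ G) [IsMonHom i]
    [IsOpenImmersion i.left] (hi : ∀ pt : ↥(𝟙_ (Over (Spec (CommRingCat.of k)))).left,
        Set.range i.left = connectedComponent (η[G].left pt)) :
    ∃ (N : ℕ) (_ : 0 < N) (φ : G ⟶ G0), IsMonHom φ ∧ φ ≫ i = (𝟙 G : G ⟶ G) ^ N := by
  have : IsNoetherian (Spec (CommRingCat.of k)) := inferInstance
  have h3 : Subsingleton (Spec (CommRingCat.of k)) := inferInstanceAs (Subsingleton (PrimeSpectrum k))
  obtain ⟨s⟩ : Nonempty (Spec (CommRingCat.of k)) := inferInstanceAs (Nonempty (PrimeSpectrum k))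
  obtain ⟨N, hN, h⟩ := exists_bound G
  have hr : Set.range ((𝟙 G : G ⟶ G) ^ N).left ⊆ Set.range i.left := by
    rintro _ ⟨x, rfl⟩
    have h4 := h x
    rw [K203.FlatImg.neutralSet_of_subsingleton s] at h4
    rw [hi s]
    exact h4
  obtain ⟨φ, hφ⟩ := K206.Comm.exists_lift_of_open i _ hr
  have hmono : Mono i := ⟨fun a b hab => by
    apply Over.OverMorphism.ext
    rw [← cancel_mono i.left, ← Over.comp_left, ← Over.comp_left, hab]⟩
  refine ⟨N, hN, φ, K719.GrpHom.isMonHom_of_mul _ fun T x y => ?_, hφ⟩
  have hp := K719.GrpHom.isMonHom_pow (𝟙 G) N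
  rw [← cancel_mono i, Category.assoc, hφ, MonObj.mul_comp, MonObj.mul_comp, Category.assoc, Category.assoc, hφ]

end Tor

section Pts

variable {S : Scheme.{u}} {G H : Over S} [GrpObj G] [IsCommMonObj G] [GrpObj H] [IsCommMonObj H]

/-- fppf homomorphisms give epimorphisms of fppf sheaves. -/
theorem epi_pts (v : G ⟶ H) [IsMonHom v] [Flat v.left] [Surjective v.left]
    [LocallyOfFinitePresentation v.left] : Epi (CGrpSh.ptsMap Scheme.fppfPrecoverage v) := by
  apply K731.Basic.epi_of_exists_cover
  intro T b
  let b' : T ⟶ H := b.down.toMul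
  refine ⟨_, Scheme.Hom.singleton_mem_fppfPrecoverage (pullback.fst b'.left v.left), ?_⟩
  rintro Y f ⟨⟩
  refine ⟨ULift.up (Additive.ofMul (Over.homMk (pullback.snd b'.left v.left) ?_)), ?_⟩
  · change pullback.snd b'.left v.left ≫ G.hom = pullback.fst b'.left v.left ≫ T.hom
    rw [← Over.w v, ← Over.w b', pullback.condition_assoc]
  · apply ULift.ext
    change Additive.ofMul _ = Additive.ofMul _
    congr 1
    apply Over.OverMorphism.ext
    exact pullback.condition.symm

/-- Monomorphisms of group schemes give monomorphisms of sheaves. -/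
theorem mono_pts (v : G ⟶ H) [IsMonHom v] [Mono v] : Mono (CGrpSh.ptsMap Scheme.fppfPrecoverage v) := by
  apply K731.Basic.mono_of_injective
  intro T x y hxy
  apply ULift.ext
  have := congrArg ULift.down hxy
  exact (cancel_mono v).1 this

theorem ptsMap_mul (f g h : G ⟶ H) [IsMonHom f] [IsMonHom g] [IsMonHom h] (e : h = f * g) :
    CGrpSh.ptsMap Scheme.fppfPrecoverage h =
      CGrpSh.ptsMap Scheme.fppfPrecoverage f + CGrpSh.ptsMap Scheme.fppfPrecoverage g := by
  subst e
  refine Sheaf.hom_ext (NatTrans.ext (funext fun T => AddCommGrpCat.ext fun x => ULift.ext _ _ ?_))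
  change Additive.ofMul (x.down.toMul ≫ (f * g)) =
    Additive.ofMul (x.down.toMul ≫ f) + Additive.ofMul (x.down.toMul ≫ g)
  rw [MonObj.comp_mul]
  rfl

/-- `[n]` is multiplication by `n` on the sheaf of points. -/
theorem ptsMap_pow (n : ℕ) (v : G ⟶ G) (hm : IsMonHom v) (hv : v = (𝟙 G : G ⟶ G) ^ n) :
    CGrpSh.ptsMap Scheme.fppfPrecoverage v = n • 𝟙 (CGrpSh.pts Scheme.fppfPrecoverage G) := by
  induction n generalizing v with
  | zero =>
    rw [_root_.pow_zero] at hv
    subst hv
    rw [zero_smul]
    exact CGrpSh.ptsMap_one (K := Scheme.fppfPrecoverage)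
  | succ n ih =>
    have hp := K719.GrpHom.isMonHom_pow (𝟙 G) n
    rw [ptsMap_mul ((𝟙 G : G ⟶ G) ^ n) (𝟙 G) v (hv.trans (_root_.pow_succ _ _)), ih _ hp rfl,
      CGrpSh.ptsMap_id, succ_nsmul]

end Pts

end K227.PowEt
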